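import Mathlib
import Groth.Prelude.Def_W4stkremschemesLRS

/-!
# Closed immersions of locally ringed spaces into affine schemes
-/

set_option autoImplicit false
universe u

open AlgebraicGeometry CategoryTheory Opposite TopologicalSpace

namespace Groth.Agent.LRSClosed

variable {R : CommRingCat.{u}} {Z : LocallyRingedSpace.{u}} (i : Z ⟶ (Spec R).toLocallyRingedSpace)

/-- the stalk of the kernel -/
noncomputable def Kst (y : PrimeSpectrum R) : Ideal ((Spec.structureSheaf R).presheaf.stalk y) :=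
  RingHom.ker ((TopCat.Presheaf.stalkFunctor CommRingCat y).map i.c).hom

/-- global elements in stalks -/
noncomputable def σ (y : PrimeSpectrum R) : R →+* (Spec.structureSheaf R).presheaf.stalk y :=
  algebraMap R ((Spec.structureSheaf R).presheaf.stalk y)

/-- the global kernel -/
noncomputable def globalKer : Ideal R :=
  RingHom.ker ((Scheme.ΓSpecIso R).inv ≫ i.c.app (op ⊤)).hom

theorem σ_eq_germ (y : PrimeSpectrum R) (a : R) :
    σ y a = (Spec.structureSheaf R).presheaf.germ ⊤ y trivial ((Scheme.ΓSpecIso R).inv a) := rfl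

theorem germ_mem_Kst_iff {U : Opens (PrimeSpectrum R)} {y : PrimeSpectrum R} (hy : y ∈ U)
    (s : (Spec.structureSheaf R).presheaf.obj (op U)) :
    (Spec.structureSheaf R).presheaf.germ U y hy s ∈ Kst i y ↔
      TopCat.Presheaf.germ ((TopCat.Presheaf.pushforward CommRingCat i.base).obj Z.presheaf) U y hy
        (i.c.app (op U) s) = 0 := by
  rw [Kst, RingHom.mem_ker]
  erw [TopCat.Presheaf.stalkFunctor_map_germ_apply]
  exact Iff.rfl

theorem mem_globalKer_iff {a : R} : a ∈ globalKer i ↔ ∀ y, σ y a ∈ Kst i y := by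
  constructor
  · intro ha y
    rw [σ_eq_germ]
    refine (germ_mem_Kst_iff i (U := ⊤) trivial _).2 ?_
    have h0 : i.c.app (op ⊤) ((Scheme.ΓSpecIso R).inv a) = 0 := ha
    erw [h0]
    exact map_zero _
  · intro h
    show i.c.app (op ⊤) ((Scheme.ΓSpecIso R).inv a) = 0
    refine TopCat.Presheaf.section_ext ((TopCat.Sheaf.pushforward CommRingCat i.base).obj Z.sheaf) ⊤ _ _ fun y hy => ?_
    refine Eq.trans ?_ (map_zero _).symm
    exact (germ_mem_Kst_iff i (U := ⊤) hy _).1 (h y)

/-- The kernel of a closed immersion into an affine scheme is generated by its global sections. -/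
theorem Kst_eq_map (hi : LRSImm.KerLocallyGenerated i) (x : PrimeSpectrum R) :
    Kst i x = (globalKer i).map (σ x) := by
  classical
  refine le_antisymm (fun t ht => ?_) (Ideal.map_le_iff_le_comap.2 fun a ha => (mem_globalKer_iff i).1 ha x)
  obtain ⟨⟨a, b⟩, hab⟩ := IsLocalization.surj x.asIdeal.primeCompl t
  have hb : IsUnit (σ x b) := IsLocalization.map_units _ b
  suffices h : σ x a ∈ (globalKer i).map (σ x) by
    exact (Ideal.mul_unit_mem_iff_mem _ hb).1 (hab ▸ h)
  have hax : σ x a ∈ Kst i x := hab ▸ Ideal.mul_mem_right _ _ ht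
  obtain ⟨f, hfx, hfK⟩ : ∃ f : R, f ∉ x.asIdeal ∧ ∀ y : PrimeSpectrum R, f ∉ y.asIdeal → σ y a ∈ Kst i y := by
    rw [σ_eq_germ] at hax
    have h1 := (germ_mem_Kst_iff i (U := ⊤) trivial _).1 hax
    rw [← map_zero (ConcreteCategory.hom (TopCat.Presheaf.germ ((TopCat.Presheaf.pushforward CommRingCat i.base).obj Z.presheaf) ⊤ x trivial))] at h1
    obtain ⟨W, hxW, i₁, i₂, heq⟩ := TopCat.Presheaf.germ_eq (U := (⊤ : Opens (PrimeSpectrum R))) (V := (⊤ : Opens (PrimeSpectrum R))) ((TopCat.Presheaf.pushforward CommRingCat i.base).obj Z.presheaf) x (show x ∈ (⊤ : Opens (PrimeSpectrum R)) from trivial) (show x ∈ (⊤ : Opens (PrimeSpectrum R)) from trivial) _ _ h1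
    replace heq := heq.trans (map_zero _)
    obtain ⟨_, ⟨f, rfl⟩, hfx, hfW⟩ :=
      PrimeSpectrum.isTopologicalBasis_basic_opens.exists_subset_of_mem_open hxW W.2
    refine ⟨f, hfx, fun y hy => ?_⟩
    rw [σ_eq_germ]
    refine (germ_mem_Kst_iff i (U := ⊤) trivial _).2 ?_
    rw [← TopCat.Presheaf.germ_res_apply _ i₁ y (hfW hy)]
    erw [heq]
    exact map_zero _
  have hlocal : ∀ y₀ : PrimeSpectrum R, ∃ g : R, g ∉ y₀.asIdeal ∧ ∃ N : ℕ,
      ∀ y : PrimeSpectrum R, g ∉ y.asIdeal → σ y (f ^ N * a) ∈ Kst i y := by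
    intro y₀
    obtain ⟨U, hyU, ι, s, hs, hspan⟩ := hi y₀
    obtain ⟨_, ⟨g, rfl⟩, hgy, hgU⟩ :=
      PrimeSpectrum.isTopologicalBasis_basic_opens.exists_subset_of_mem_open hyU U.2
    refine ⟨g, hgy, ?_⟩
    have hfrac : ∀ j, ∃ (r : R) (n : ℕ), ∀ (y : PrimeSpectrum R) (hy : g ∉ y.asIdeal),
        (Spec.structureSheaf R).presheaf.germ U y (hgU hy) (s j) * σ y (g ^ n) = σ y r := by
      intro j
      obtain ⟨⟨r, ⟨_, n, rfl⟩⟩, hr⟩ := IsLocalization.surj (Submonoid.powers g)
        (S := (Spec.structureSheaf R).obj.obj (op (PrimeSpectrum.basicOpen g)))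
        (((Spec.structureSheaf R).presheaf.map (homOfLE hgU : PrimeSpectrum.basicOpen g ⟶ U).op) (s j) :
          (Spec.structureSheaf R).obj.obj (op (PrimeSpectrum.basicOpen g)))
      refine ⟨r, n, fun y hy => ?_⟩
      have h2 := congrArg ((Spec.structureSheaf R).presheaf.germ (PrimeSpectrum.basicOpen g) y hy) hr
      rw [map_mul] at h2
      erw [TopCat.Presheaf.germ_res_apply] at h2
      have h3 : ∀ c : R, (Spec.structureSheaf R).presheaf.germ (PrimeSpectrum.basicOpen g) y hy (algebraMap R ((Spec.structureSheaf R).obj.obj (op (PrimeSpectrum.basicOpen g))) c) = σ y c := fun c => by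
        exact TopCat.Presheaf.germ_res_apply (Spec.structureSheaf R).presheaf (homOfLE le_top : PrimeSpectrum.basicOpen g ⟶ ⊤) y hy (algebraMap R ((Spec.structureSheaf R).obj.obj (op ⊤)) c)
      rw [h3, h3] at h2
      exact h2
    choose r n hr using hfrac
    have hK : ∀ (y : PrimeSpectrum R), g ∉ y.asIdeal → Kst i y = (Ideal.span (Set.range r)).map (σ y) := by
      intro y hy
      have h1 : Ideal.span (Set.range fun j => (Spec.structureSheaf R).presheaf.germ U y (hgU hy) (s j)) = Kst i y :=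
        hspan y (hgU hy)
      have hu : ∀ j, IsUnit (σ y (g ^ n j)) := fun j => by
        rw [map_pow]
        exact (IsLocalization.map_units ((Spec.structureSheaf R).presheaf.stalk y) (⟨g, hy⟩ : y.asIdeal.primeCompl)).pow _
      rw [← h1, Ideal.map_span, ← Set.range_comp]
      refine le_antisymm (Ideal.span_le.2 ?_) (Ideal.span_le.2 ?_)
      · rintro _ ⟨j, rfl⟩
        refine (Ideal.mul_unit_mem_iff_mem _ (hu j)).1 ?_
        rw [hr j y hy]
        exact Ideal.subset_span ⟨j, rfl⟩
      · rintro _ ⟨j, rfl⟩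
        show σ y (r j) ∈ _
        rw [← hr j y hy]
        exact Ideal.mul_mem_right _ _ (Ideal.subset_span ⟨j, rfl⟩)
    let C : Ideal R := Submodule.colon (Ideal.span (Set.range r)) (Ideal.span {a} : Set R)
    have hrad : f * g ∈ C.radical := by
      rw [Ideal.radical_eq_sInf, Submodule.mem_sInf]
      intro P' hP'
      obtain ⟨P, rfl⟩ : ∃ P : Ideal R, P = P' := ⟨P', rfl⟩
      obtain ⟨hCP, hP⟩ := hP'
      by_contra hfg
      have hf : f ∉ P := fun h => hfg (P.mul_mem_right _ h)
      have hg : g ∉ P := fun h => hfg (P.mul_mem_left _ h)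
      have h1 := hfK ⟨P, hP⟩ hf
      rw [hK ⟨P, hP⟩ hg] at h1
      haveI : IsLocalization P.primeCompl ((Spec.structureSheaf R).presheaf.stalk ⟨P, hP⟩) :=
        StructureSheaf.IsLocalization.to_stalk R ⟨P, hP⟩
      obtain ⟨c, hcP, hca⟩ := (IsLocalization.algebraMap_mem_map_algebraMap_iff P.primeCompl
        ((Spec.structureSheaf R).presheaf.stalk ⟨P, hP⟩) (Ideal.span (Set.range r)) a).1 h1
      refine hcP (hCP (Submodule.mem_colon.2 fun p hp => ?_))
      obtain ⟨q, rfl⟩ := Ideal.mem_span_singleton'.1 hp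
      rw [smul_eq_mul, show c * (q * a) = q * (c * a) by ring]
      exact Ideal.mul_mem_left _ _ hca
    obtain ⟨N, hN⟩ := hrad
    refine ⟨N, fun y hy => ?_⟩
    rw [hK y hy]
    have h2 : (f * g) ^ N * a ∈ Ideal.span (Set.range r) :=
      Submodule.mem_colon.1 hN a (Ideal.mem_span_singleton_self a)
    have h3 := Ideal.mem_map_of_mem (σ y) h2
    rw [mul_pow, show f ^ N * g ^ N * a = f ^ N * a * g ^ N by ring, map_mul] at h3
    refine (Ideal.mul_unit_mem_iff_mem _ ?_).1 h3
    rw [map_pow]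
    exact (IsLocalization.map_units ((Spec.structureSheaf R).presheaf.stalk y) (⟨g, hy⟩ : y.asIdeal.primeCompl)).pow _
  choose g hg N hN using hlocal
  obtain ⟨T, hT⟩ := isCompact_univ.elim_finite_subcover
    (fun y₀ : PrimeSpectrum R => (PrimeSpectrum.basicOpen (g y₀) : Set (PrimeSpectrum R)))
    (fun y₀ => (PrimeSpectrum.basicOpen (g y₀)).2) (fun y _ => Set.mem_iUnion.2 ⟨y, hg y⟩)
  let M := T.sup N
  have hmem : f ^ M * a ∈ globalKer i := by
    rw [mem_globalKer_iff]
    intro y
    obtain ⟨y₀, hy₀, hy⟩ := Set.mem_iUnion₂.1 (hT (Set.mem_univ y))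
    have h1 := hN y₀ y hy
    rw [show f ^ M * a = f ^ (M - N y₀) * (f ^ N y₀ * a) by
      rw [← mul_assoc, ← pow_add, Nat.sub_add_cancel (Finset.le_sup hy₀)], map_mul]
    exact Ideal.mul_mem_left _ _ h1
  have h2 := Ideal.mem_map_of_mem (σ x) hmem
  rw [map_mul, mul_comm] at h2
  refine (Ideal.mul_unit_mem_iff_mem _ ?_).1 h2
  rw [map_pow]
  exact (IsLocalization.map_units ((Spec.structureSheaf R).presheaf.stalk x) (⟨f, hfx⟩ : x.asIdeal.primeCompl)).pow _

end Groth.Agent.LRSClosed

namespace Groth.Agent.LRSClosed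

variable {R : CommRingCat.{u}} {Z : LocallyRingedSpace.{u}}

/-- the closed subscheme of an ideal -/
noncomputable abbrev quotMor (I : Ideal R) :
    Spec (CommRingCat.of (R ⧸ I)) ⟶ Spec R :=
  Spec.map (CommRingCat.ofHom (Ideal.Quotient.mk I))

theorem quotMor_stalkMap_σ (I : Ideal R) (p : Spec (CommRingCat.of (R ⧸ I))) {a : R} (ha : a ∈ I) :
    (quotMor I).stalkMap p (σ ((quotMor I) p) a) = 0 := by
  rw [σ_eq_germ]
  erw [Scheme.Hom.germ_stalkMap_apply (quotMor I) ⊤ p trivial]
  have h1 : (quotMor I).appTop ((Scheme.ΓSpecIso R).inv a) = 0 := by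
    rw [← CommRingCat.comp_apply, ← Scheme.ΓSpecIso_inv_naturality, CommRingCat.comp_apply]
    rw [show CommRingCat.ofHom (Ideal.Quotient.mk I) a = 0 from Ideal.Quotient.eq_zero_iff_mem.2 ha, map_zero]
  erw [h1]
  exact map_zero _

theorem quotMor_stalkMap_eq_zero (I : Ideal R) (p : Spec (CommRingCat.of (R ⧸ I)))
    {t : (Spec.structureSheaf R).presheaf.stalk ((quotMor I) p)}
    (ht : t ∈ I.map (σ ((quotMor I) p))) : (quotMor I).stalkMap p t = 0 := by
  have : I.map (σ ((quotMor I) p)) ≤ RingHom.ker ((quotMor I).stalkMap p).hom :=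
    Ideal.map_le_iff_le_comap.2 fun a ha => quotMor_stalkMap_σ I p ha
  exact this ht

theorem isIso_of_isClosedImmersion (I : Ideal R)
    (g : Z ⟶ (Spec (CommRingCat.of (R ⧸ I))).toLocallyRingedSpace)
    (hi : LRSImm.IsClosedImmersion (g ≫ (quotMor I).toLRSHom))
    (hI : I = globalKer (g ≫ (quotMor I).toLRSHom)) : IsIso g := by
  obtain ⟨hemb, hsurj, hgen⟩ := hi
  haveI : IsClosedImmersion (quotMor I) :=
    IsClosedImmersion.spec_of_surjective _ Ideal.Quotient.mk_surjective
  have hgemb : Topology.IsClosedEmbedding g.base :=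
    ((quotMor I).isClosedEmbedding).of_comp_iff.1 hemb
  have hK : ∀ x, Kst (g ≫ (quotMor I).toLRSHom) x = I.map (σ x) := fun x =>
    (Kst_eq_map _ hgen x).trans (by rw [← hI])
  have hgsurj : Function.Surjective g.base := by
    intro p
    by_contra hp
    let x : PrimeSpectrum R := (quotMor I) p
    have hx : x ∉ Set.range (g ≫ (quotMor I).toLRSHom).base := by
      rintro ⟨z, hz⟩
      exact hp ⟨z, (quotMor I).isClosedEmbedding.injective hz⟩
    let V : Opens (PrimeSpectrum R) := ⟨_, hemb.isClosed_range.isOpen_compl⟩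
    have hV : (Opens.map (g ≫ (quotMor I).toLRSHom).base).obj V = ⊥ := by
      ext z
      refine ⟨fun hz => absurd ⟨z, rfl⟩ hz, fun hz => False.elim hz⟩
    haveI : Subsingleton (((TopCat.Presheaf.pushforward CommRingCat (g ≫ (quotMor I).toLRSHom).base).obj
        Z.presheaf).obj (op V)) := by
      change Subsingleton (Z.presheaf.obj (op ((Opens.map (g ≫ (quotMor I).toLRSHom).base).obj V)))
      rw [hV]
      exact CommRingCat.subsingleton_of_isTerminal Z.sheaf.isTerminalOfEmpty
    have h1 : (1 : (Spec.structureSheaf R).presheaf.stalk x) ∈ Kst (g ≫ (quotMor I).toLRSHom) x := by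
      rw [← map_one ((Spec.structureSheaf R).presheaf.germ V x hx).hom]
      refine (germ_mem_Kst_iff _ (U := V) hx 1).2 ?_
      have e := Subsingleton.elim ((g ≫ (quotMor I).toLRSHom).c.app (op V) 1) 0
      erw [e]
      exact map_zero _
    rw [hK] at h1
    have h2 := quotMor_stalkMap_eq_zero I p h1
    replace h2 := (map_one ((quotMor I).stalkMap p).hom).symm.trans h2
    exact one_ne_zero h2
  haveI : Epi g.base := (TopCat.epi_iff_surjective _).2 hgsurj
  have hopen : Topology.IsOpenEmbedding g.base := by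
    refine ⟨hgemb.isEmbedding, ?_⟩
    rw [hgsurj.range_eq]
    exact isOpen_univ
  haveI : ∀ z : Z, IsIso (g.stalkMap z) := fun z => by
    haveI := TopCat.Presheaf.stalkPushforward.stalkPushforward_iso_of_isInducing CommRingCat
      hemb.isInducing Z.presheaf z
    let μ := Z.presheaf.stalkPushforward CommRingCat (g ≫ (quotMor I).toLRSHom).base z
    have hμ : Function.Bijective μ := ConcreteCategory.bijective_of_isIso μ
    have hcomp : ∀ t, (g ≫ (quotMor I).toLRSHom).stalkMap z t =
        μ ((TopCat.Presheaf.stalkFunctor CommRingCat _).map (g ≫ (quotMor I).toLRSHom).c t) := fun t => rfl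
    have hcomp' : ∀ t, (g ≫ (quotMor I).toLRSHom).stalkMap z t =
        g.stalkMap z ((quotMor I).stalkMap (g.base z) t) := fun t => by
      rw [LocallyRingedSpace.stalkMap_comp]
      rfl
    refine (ConcreteCategory.isIso_iff_bijective _).2 ⟨?_, ?_⟩
    · rw [injective_iff_map_eq_zero]
      intro t ht
      obtain ⟨t', rfl⟩ := (quotMor I).stalkMap_surjective (g.base z) t
      refine quotMor_stalkMap_eq_zero I (g.base z) ?_
      have h3 := hcomp' t'
      rw [hcomp] at h3
      rw [ht] at h3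
      have h4 : t' ∈ Kst (g ≫ (quotMor I).toLRSHom) ((quotMor I) (g.base z)) :=
        RingHom.mem_ker.2 (hμ.1 (h3.trans (map_zero μ.hom).symm))
      rwa [hK] at h4
    · intro b
      obtain ⟨s, hs⟩ := hμ.2 b
      obtain ⟨t, ht⟩ := (TopCat.Presheaf.locally_surjective_iff_surjective_on_stalks _).1 hsurj _ s
      refine ⟨(quotMor I).stalkMap (g.base z) t, ?_⟩
      rw [← hcomp', hcomp]
      exact (congrArg (fun r => μ r) ht).trans hs
  haveI : LocallyRingedSpace.IsOpenImmersion g := LocallyRingedSpace.IsOpenImmersion.of_stalk_iso g hopen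
  exact LocallyRingedSpace.IsOpenImmersion.to_iso g

theorem exists_iso_quot (i : Z ⟶ (Spec R).toLocallyRingedSpace) (hi : LRSImm.IsClosedImmersion i)
    (I : Ideal R) (hI : I = globalKer i) :
    ∃ e : Z ≅ (Spec (CommRingCat.of (R ⧸ I))).toLocallyRingedSpace, e.hom ≫ (quotMor I).toLRSHom = i := by
  let φ : CommRingCat.of (R ⧸ I) ⟶ LocallyRingedSpace.Γ.obj (op Z) :=
    CommRingCat.ofHom (Ideal.Quotient.lift I ((Scheme.ΓSpecIso R).inv ≫ i.c.app (op ⊤)).hom
      (fun a ha => RingHom.mem_ker.1 (hI ▸ ha : a ∈ globalKer i)))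
  let g : Z ⟶ (Spec (CommRingCat.of (R ⧸ I))).toLocallyRingedSpace :=
    ΓSpec.locallyRingedSpaceAdjunction.homEquiv Z (op (CommRingCat.of (R ⧸ I))) φ.op
  have hg : g ≫ (quotMor I).toLRSHom = i := by
    apply (ΓSpec.locallyRingedSpaceAdjunction.homEquiv Z (op R)).symm.injective
    have h1 := Adjunction.homEquiv_naturality_right_symm ΓSpec.locallyRingedSpaceAdjunction g
      (CommRingCat.ofHom (Ideal.Quotient.mk I)).op
    refine h1.trans ?_
    rw [Equiv.symm_apply_apply]
    apply Quiver.Hom.unop_inj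
    rw [Adjunction.homEquiv_counit]
    ext a
    rfl
  haveI := isIso_of_isClosedImmersion I g (hg.symm ▸ hi) (hg.symm ▸ hI)
  exact ⟨asIso g, hg⟩

end Groth.Agent.LRSClosed
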