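import Mathlib
import Groth.Agent.LRSClosed.Affine

/-!
# Restriction of closed immersions of locally ringed spaces to opens
-/

set_option autoImplicit false
universe u

open AlgebraicGeometry CategoryTheory Opposite TopologicalSpace

namespace Groth.Agent.LRSClosed

variable {Z X : LocallyRingedSpace.{u}} (i : Z ⟶ X)

/-- kernel of `O_X → i_* O_Z` at a point -/
noncomputable def KerAt (x : X.toTopCat) : Ideal (X.presheaf.stalk x) :=
  RingHom.ker ((TopCat.Presheaf.stalkFunctor CommRingCat x).map i.c).hom

theorem subsingleton_pushforward_stalk (hcl : IsClosed (Set.range i.base)) {x : X.toTopCat}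
    (hx : x ∉ Set.range i.base) :
    Subsingleton (((TopCat.Presheaf.pushforward CommRingCat i.base).obj Z.presheaf).stalk x) := by
  let V : Opens X.toTopCat := ⟨_, hcl.isOpen_compl⟩
  have hV : (Opens.map i.base).obj V = ⊥ := by
    ext z
    exact ⟨fun hz => absurd ⟨z, rfl⟩ hz, fun hz => False.elim hz⟩
  haveI : Subsingleton (((TopCat.Presheaf.pushforward CommRingCat i.base).obj Z.presheaf).obj (op V)) := by
    change Subsingleton (Z.presheaf.obj (op ((Opens.map i.base).obj V)))
    rw [hV]
    exact CommRingCat.subsingleton_of_isTerminal Z.sheaf.isTerminalOfEmpty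
  refine subsingleton_of_zero_eq_one ?_
  have h := congrArg (TopCat.Presheaf.germ ((TopCat.Presheaf.pushforward CommRingCat i.base).obj Z.presheaf) V x hx)
    (Subsingleton.elim (0 : ((TopCat.Presheaf.pushforward CommRingCat i.base).obj Z.presheaf).obj (op V)) 1)
  exact ((map_zero _).symm.trans h).trans (map_one _)

theorem kerAt_of_not_mem (hcl : IsClosed (Set.range i.base)) {x : X.toTopCat}
    (hx : x ∉ Set.range i.base) : KerAt i x = ⊤ := by
  exact eq_top_iff.2 fun t _ => RingHom.mem_ker.2 ((subsingleton_pushforward_stalk i hcl hx).elim _ _)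

theorem kerAt_apply (hi : Topology.IsInducing i.base) (z : Z.toTopCat) :
    KerAt i (i.base z) = RingHom.ker (i.stalkMap z).hom := by
  haveI := TopCat.Presheaf.stalkPushforward.stalkPushforward_iso_of_isInducing CommRingCat hi Z.presheaf z
  let μ := Z.presheaf.stalkPushforward CommRingCat i.base z
  have hμ : Function.Bijective μ := ConcreteCategory.bijective_of_isIso μ
  ext t
  have h : (i.stalkMap z).hom t = μ ((TopCat.Presheaf.stalkFunctor CommRingCat _).map i.c t) := rfl
  rw [KerAt, RingHom.mem_ker, RingHom.mem_ker, h]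
  exact ⟨fun h0 => (congrArg (fun r => μ r) h0).trans (map_zero μ.hom),
    fun h0 => hμ.1 (h0.trans (map_zero μ.hom).symm)⟩

theorem stalkMap_surjective (hi : Topology.IsInducing i.base)
    (hs : TopCat.Presheaf.IsLocallySurjective i.c) (z : Z.toTopCat) :
    Function.Surjective (i.stalkMap z) := by
  haveI := TopCat.Presheaf.stalkPushforward.stalkPushforward_iso_of_isInducing CommRingCat hi Z.presheaf z
  let μ := Z.presheaf.stalkPushforward CommRingCat i.base z
  intro b
  obtain ⟨s, hs'⟩ := (ConcreteCategory.bijective_of_isIso μ).2 b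
  obtain ⟨t, ht⟩ := (TopCat.Presheaf.locally_surjective_iff_surjective_on_stalks _).1 hs (i.base z) s
  exact ⟨t, (congrArg (fun r => μ r) ht).trans hs'⟩

theorem isLocallySurjective_of_stalkMap (hcl : Topology.IsClosedEmbedding i.base)
    (h : ∀ z, Function.Surjective (i.stalkMap z)) : TopCat.Presheaf.IsLocallySurjective i.c := by
  rw [TopCat.Presheaf.locally_surjective_iff_surjective_on_stalks]
  intro x
  by_cases hx : x ∈ Set.range i.base
  · obtain ⟨z, rfl⟩ := hx
    haveI := TopCat.Presheaf.stalkPushforward.stalkPushforward_iso_of_isInducing CommRingCat hcl.isInducing Z.presheaf z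
    let μ := Z.presheaf.stalkPushforward CommRingCat i.base z
    intro s
    obtain ⟨t, ht⟩ := h z (μ s)
    exact ⟨t, (ConcreteCategory.bijective_of_isIso μ).1 ht⟩
  · exact fun s => ⟨0, (subsingleton_pushforward_stalk i hcl.isClosed_range hx).elim _ _⟩

/-- Closed immersions restrict to opens. -/
theorem isClosedImmersion_restrict (hi : LRSImm.IsClosedImmersion i)
    {X' Z' : LocallyRingedSpace.{u}} (j : X' ⟶ X) (k : Z' ⟶ Z)
    [LocallyRingedSpace.IsOpenImmersion j] [LocallyRingedSpace.IsOpenImmersion k]
    (i' : Z' ⟶ X') (hcomm : i' ≫ j = k ≫ i)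
    (hrange : ∀ z, i.base z ∈ Set.range j.base → z ∈ Set.range k.base) :
    LRSImm.IsClosedImmersion i' := by
  obtain ⟨hemb, hsurj, hgen⟩ := hi
  have hj : Topology.IsOpenEmbedding j.base := PresheafedSpace.IsOpenImmersion.base_open (f := j.toHom)
  have hk : Topology.IsOpenEmbedding k.base := PresheafedSpace.IsOpenImmersion.base_open (f := k.toHom)
  have hb : ∀ z, j.base (i'.base z) = i.base (k.base z) := fun z =>
    congrArg (fun m : Z' ⟶ X => m.base z) hcomm
  have hemb' : Topology.IsClosedEmbedding i'.base := by
    have h1 : Topology.IsEmbedding (j.base ∘ i'.base) := by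
      rw [show ⇑j.base ∘ ⇑i'.base = ⇑i.base ∘ ⇑k.base from funext hb]
      exact hemb.isEmbedding.comp hk.isEmbedding
    refine ⟨hj.isEmbedding.of_comp_iff.1 h1, ?_⟩
    have h2 : Set.range i'.base = j.base ⁻¹' Set.range i.base := by
      ext y
      constructor
      · rintro ⟨z, rfl⟩
        exact ⟨k.base z, (hb z).symm⟩
      · rintro ⟨z, hz⟩
        obtain ⟨w, rfl⟩ := hrange z ⟨y, hz.symm⟩
        exact ⟨w, hj.injective ((hb w).trans hz)⟩
    rw [h2]
    exact hemb.isClosed_range.preimage j.base.hom.continuous
  have hjiso : ∀ y, Function.Bijective (j.stalkMap y) := fun y => by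
    haveI : IsIso (j.stalkMap y) := PresheafedSpace.IsOpenImmersion.stalk_iso j.toHom y
    exact ConcreteCategory.bijective_of_isIso _
  have hkiso : ∀ z, Function.Bijective (k.stalkMap z) := fun z => by
    haveI : IsIso (k.stalkMap z) := PresheafedSpace.IsOpenImmersion.stalk_iso k.toHom z
    exact ConcreteCategory.bijective_of_isIso _
  have hst : ∀ z t, i'.stalkMap z (j.stalkMap (i'.base z) t) =
      k.stalkMap z (i.stalkMap (k.base z)
        (X.presheaf.stalkSpecializes (specializes_of_eq (hb z).symm) t)) := fun z t => by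
    have h1 := LocallyRingedSpace.stalkMap_congr_hom (i' ≫ j) (k ≫ i) hcomm z
    rw [LocallyRingedSpace.stalkMap_comp, LocallyRingedSpace.stalkMap_comp] at h1
    have h2 := congrArg (fun φ => φ.hom t) h1
    exact h2
  have hspec : ∀ z, Function.Bijective
      (X.presheaf.stalkSpecializes (specializes_of_eq (hb z).symm)) := fun z => by
    haveI : IsIso (X.presheaf.stalkSpecializes (specializes_of_eq (hb z).symm)) :=
      (X.presheaf.stalkCongr (Inseparable.of_eq (hb z))).isIso_hom
    exact ConcreteCategory.bijective_of_isIso _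
  refine ⟨hemb', ?_, ?_⟩
  · refine isLocallySurjective_of_stalkMap i' hemb' fun z s => ?_
    obtain ⟨s', rfl⟩ := (hkiso z).2 s
    obtain ⟨t, rfl⟩ := stalkMap_surjective i hemb.isInducing hsurj (k.base z) s'
    obtain ⟨t', rfl⟩ := (hspec z).2 t
    exact ⟨j.stalkMap (i'.base z) t', hst z t'⟩
  · intro y
    obtain ⟨U, hyU, ι, s, hs, hspan⟩ := hgen (j.base y)
    refine ⟨(Opens.map j.base).obj U, hyU, ι, fun m => j.c.app (op U) (s m), fun m => ?_, ?_⟩
    · have h1 : (i' ≫ j).c.app (op U) (s m) = 0 := by
        rw [show (i' ≫ j).c.app (op U) = ((k ≫ i).c.app (op U)) ≫ Z'.presheaf.map (eqToHom (by rw [hcomm])) from by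
          rw [PresheafedSpace.congr_app (congrArg LocallyRingedSpace.Hom.toHom hcomm) (op U)]]
        show Z'.presheaf.map _ (k.c.app _ (i.c.app (op U) (s m))) = 0
        rw [hs m, map_zero]
        exact map_zero _
      exact h1
    · intro y' hy'
      have e1 : Ideal.span (Set.range fun m => X'.presheaf.germ _ y' hy' (j.c.app (op U) (s m))) =
          (KerAt i (j.base y')).map (j.stalkMap y').hom := by
        rw [show KerAt i (j.base y') = Ideal.span (Set.range fun m => X.presheaf.germ U (j.base y') hy' (s m))
            from (hspan (j.base y') hy').symm, Ideal.map_span, ← Set.range_comp]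
        congr 1
        congr 1
        funext m
        exact (LocallyRingedSpace.stalkMap_germ_apply j U y' hy' (s m)).symm
      rw [e1]
      show _ = KerAt i' y'
      by_cases hy : y' ∈ Set.range i'.base
      · obtain ⟨z, rfl⟩ := hy
        rw [kerAt_apply i' hemb'.isInducing]
        ext t
        obtain ⟨t', rfl⟩ := (hjiso (i'.base z)).2 t
        have hmem : (j.stalkMap (i'.base z)) t' ∈ (KerAt i (j.base (i'.base z))).map (j.stalkMap (i'.base z)).hom ↔
            t' ∈ KerAt i (j.base (i'.base z)) := by
          rw [Ideal.mem_map_iff_of_surjective _ (hjiso (i'.base z)).2]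
          exact ⟨fun ⟨a, ha, hat⟩ => (hjiso _).1 hat ▸ ha, fun h => ⟨t', h, rfl⟩⟩
        refine hmem.trans ?_
        have hkk : ∀ (a b : X.toTopCat) (e : a = b) (t : X.presheaf.stalk a),
            t ∈ KerAt i a ↔ X.presheaf.stalkSpecializes (specializes_of_eq e.symm) t ∈ KerAt i b := by
          intro a b e t
          subst e
          simp
        rw [hkk _ _ (hb z), kerAt_apply i hemb.isInducing, RingHom.mem_ker, RingHom.mem_ker]
        constructor
        · intro h0
          show i'.stalkMap z (j.stalkMap (i'.base z) t') = 0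
          rw [hst]
          erw [h0]
          exact map_zero _
        · intro h0
          apply (hkiso z).1
          exact ((hst z t').symm.trans h0).trans (map_zero _).symm
      · rw [kerAt_of_not_mem i' hemb'.isClosed_range hy]
        have : j.base y' ∉ Set.range i.base := by
          rintro ⟨z, hz⟩
          obtain ⟨w, rfl⟩ := hrange z ⟨y', hz.symm⟩
          exact hy ⟨w, hj.injective ((hb w).trans hz)⟩
        rw [kerAt_of_not_mem i hemb.isClosed_range this, Ideal.map_top]

end Groth.Agent.LRSClosed
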